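import Cfsg.Agent.Lib.SpMinDegree.Siegel
import Cfsg.Agent.Lib.Classical.SympMinDegree
import Cfsg.Agent.Lib.FormRep.Symplectic
import Mathlib.FieldTheory.IsAlgClosed.AlgebraicClosure
import Mathlib.NumberTheory.LegendreSymbol.AddCharacter

/-!
Representations of `Sp(2n, F)` in cross characteristic: weights of the Siegel radical.
-/

set_option autoImplicit false
set_option linter.unusedSectionVars false
set_option linter.style.haveILetI false

namespace CfsgLib.SpCrossDegree

open Matrix CfsgLib.SpMinDegree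
open scoped MatrixGroups

local notation "SymM" => CfsgLib.SpMinDegree.Sym

variable {F : Type*} [Field F] [Fintype F] [DecidableEq F] {n : ℕ}
variable {L : Type*} [Field L]

/-- The weight attached to a symmetric matrix. -/
def wt (ψ : AddChar F L) (T : Matrix (Fin n) (Fin n) F) : AddChar (SymM F n) L where
  toFun S := ψ (Matrix.trace (T * S.1))
  map_zero_eq_one' := by
    show ψ (Matrix.trace (T * 0)) = 1
    rw [Matrix.mul_zero, Matrix.trace_zero, AddChar.map_zero_eq_one]
  map_add_eq_mul' S S' := by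
    rw [show ((S + S' : SymM F n) : Matrix (Fin n) (Fin n) F) = S.1 + S'.1 from rfl, Matrix.mul_add,
      Matrix.trace_add, AddChar.map_add_eq_mul]

theorem exists_psi (p : ℕ) [Fact p.Prime] [CharP F p] [IsAlgClosed L] (hp : (p : L) ≠ 0) :
    ∃ ψ : AddChar F L, ∀ a : F, a ≠ 0 → ∃ x, ψ (a * x) ≠ 1 := by
  have : NeZero ((p : ℕ) : L) := ⟨hp⟩
  obtain ⟨ζ, hζ⟩ := HasEnoughRootsOfUnity.exists_primitiveRoot L p
  letI := ZMod.algebra F p
  have hne : ∃ x : F, Algebra.trace (ZMod p) F x ≠ 0 := by
    by_contra h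
    push Not at h
    exact Algebra.trace_ne_zero (ZMod p) F (LinearMap.ext h)
  obtain ⟨x, hx⟩ := hne
  refine ⟨(AddChar.zmodChar p hζ.pow_eq_one).compAddMonoidHom
    (Algebra.trace (ZMod p) F).toAddMonoidHom, fun a ha => ⟨a⁻¹ * x, ?_⟩⟩
  rw [← mul_assoc, mul_inv_cancel₀ ha, one_mul, AddChar.compAddMonoidHom_apply, AddChar.zmodChar_apply]
  intro h
  have := (hζ.pow_eq_one_iff_dvd _).1 h
  exact hx (by
    have h2 := Nat.eq_zero_of_dvd_of_lt this (ZMod.val_lt _)
    exact (ZMod.val_eq_zero _).1 h2)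

theorem wt_injective {ψ : AddChar F L} (hψ : ∀ a : F, a ≠ 0 → ∃ x, ψ (a * x) ≠ 1) (h2 : (2 : F) ≠ 0) :
    Function.Injective fun T : SymM F n => wt ψ T.1 := by
  intro T T' h
  by_contra hne
  obtain ⟨i, j, hij⟩ : ∃ i j, (T.1 - T'.1) i j ≠ 0 := by
    by_contra! h'
    exact hne (Subtype.ext (sub_eq_zero.1 (Matrix.ext fun i j => h' i j)))
  have hsym : (T.1 - T'.1) j i = (T.1 - T'.1) i j := by
    simp only [Matrix.sub_apply]
    rw [congrFun (congrFun (show (T.1)ᵀ = T.1 from T.2).symm j) i,
      congrFun (congrFun (show (T'.1)ᵀ = T'.1 from T'.2).symm j) i]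
    rfl
  obtain ⟨x, hx⟩ := hψ (2 * (T.1 - T'.1) i j) (mul_ne_zero h2 hij)
  let S : SymM F n := ⟨Matrix.single i j x + Matrix.single j i x, by
    show (_ : Matrix (Fin n) (Fin n) F)ᵀ = _
    rw [transpose_add, transpose_single, transpose_single, add_comm]⟩
  have h3 : ψ (Matrix.trace (T.1 * S.1)) = ψ (Matrix.trace (T'.1 * S.1)) := DFunLike.congr_fun h S
  have e : Matrix.trace (T.1 * S.1) = Matrix.trace (T'.1 * S.1) + 2 * (T.1 - T'.1) i j * x := by
    have e1 : Matrix.trace ((T.1 - T'.1) * S.1) = 2 * (T.1 - T'.1) i j * x := by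
      show Matrix.trace ((T.1 - T'.1) * (Matrix.single i j x + Matrix.single j i x)) = _
      rw [Matrix.mul_add, Matrix.trace_add, Matrix.trace_mul_comm, Matrix.trace_mul_comm _ (Matrix.single j i x),
        Matrix.trace_single_mul, Matrix.trace_single_mul, hsym]
      simp only [smul_eq_mul]
      ring
    rw [← e1, Matrix.sub_mul, Matrix.trace_sub]
    ring
  rw [e, AddChar.map_add_eq_mul, mul_eq_left₀] at h3
  · exact hx h3
  · intro h0
    have := ψ.map_add_eq_mul (Matrix.trace (T'.1 * S.1)) (-Matrix.trace (T'.1 * S.1))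
    rw [add_neg_cancel, AddChar.map_zero_eq_one, h0, zero_mul] at this
    exact one_ne_zero this

theorem wt_surjective {ψ : AddChar F L} (hψ : ∀ a : F, a ≠ 0 → ∃ x, ψ (a * x) ≠ 1) (h2 : (2 : F) ≠ 0)
    (ω : AddChar (SymM F n) L) : ∃ T : SymM F n, wt ψ T.1 = ω := by
  classical
  have hli : LinearIndependent L ((⇑) : AddChar (SymM F n) L → SymM F n → L) :=
    (linearIndependent_monoidHom (Multiplicative (SymM F n)) L).comp AddChar.toMonoidHomEquiv
      AddChar.toMonoidHomEquiv.injective
  have hfin : Finite (AddChar (SymM F n) L) := hli.finite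
  have : Fintype (AddChar (SymM F n) L) := Fintype.ofFinite _
  have hle : Fintype.card (AddChar (SymM F n) L) ≤ Fintype.card (SymM F n) :=
    hli.fintype_card_le_finrank.trans_eq (Module.finrank_fintype_fun_eq_card L)
  have hinj := wt_injective (n := n) hψ h2
  exact (((Fintype.bijective_iff_injective_and_card _).2
    ⟨hinj, le_antisymm (Fintype.card_le_of_injective _ hinj) hle⟩).2 ω)

theorem degree_ge_field [IsAlgClosed L] (p : ℕ) [Fact p.Prime] [CharP F p] (hp : (p : L) ≠ 0)
    (h2 : (2 : F) ≠ 0) {d : ℕ}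
    (ρ : Matrix.symplecticGroup (Fin n) F →* Matrix (Fin d) (Fin d) L)
    (hρ : ∀ S : SymM F n, ρ (unip S) = 1 → S = 0) (hn : 1 ≤ n) :
    (Fintype.card F ^ n - 1) / 2 ≤ d := by
  classical
  obtain ⟨ψ, hψ⟩ := exists_psi (F := F) (L := L) p hp
  have hcard : ((Fintype.card (SymM F n) : ℕ) : L) ≠ 0 := by
    have : Fact p.Prime := ‹_›
    have hpg : IsPGroup p (Multiplicative (SymM F n)) := fun x => ⟨1, by
      apply Multiplicative.toAdd.injective
      rw [toAdd_pow, pow_one, toAdd_one]
      refine Subtype.ext ?_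
      show ((p : ℕ) • (Multiplicative.toAdd x).1) = 0
      rw [← Nat.cast_smul_eq_nsmul F, CharP.cast_eq_zero, zero_smul]⟩
    obtain ⟨k, hk⟩ := IsPGroup.iff_card.1 hpg
    have hk' : Fintype.card (SymM F n) = p ^ k := by
      rw [← hk, Nat.card_eq_fintype_card, Fintype.card_multiplicative]
    rw [hk', Nat.cast_pow]
    exact pow_ne_zero _ hp
  set N : L := ((Fintype.card (SymM F n) : ℕ) : L) with hN
  let R : SymM F n → Matrix (Fin d) (Fin d) L := fun S => ρ (unip S)
  have hR : ∀ S S', R (S + S') = R S * R S' := fun S S' => by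
    simp only [R, AddChar.map_add_eq_mul, map_mul]
  have hR0 : R 0 = 1 := by simp only [R, AddChar.map_zero_eq_one, map_one]
  let e : SymM F n → Matrix (Fin d) (Fin d) L := fun T => N⁻¹ • ∑ S, wt ψ T.1 (-S) • R S
  have heig : ∀ T S, R S * e T = wt ψ T.1 S • e T := by
    intro T S
    simp only [e, Matrix.mul_smul, Finset.mul_sum, ← hR]
    rw [smul_comm, Finset.smul_sum (r := wt ψ T.1 S)]
    congr 1
    refine Fintype.sum_equiv (Equiv.addLeft S) _ _ fun S' => ?_
    rw [smul_smul, ← AddChar.map_add_eq_mul]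
    congr 2
    simp
  have hsum : ∑ T, e T = 1 := by
    simp only [e, ← Finset.smul_sum]
    rw [Finset.sum_comm]
    simp only [← Finset.sum_smul]
    rw [Finset.sum_eq_single (0 : SymM F n)]
    · simp only [neg_zero, AddChar.map_zero_eq_one, Finset.sum_const, Finset.card_univ, nsmul_one]
      rw [hR0, smul_smul, ← hN, inv_mul_cancel₀ hcard, one_smul]
    · intro S _ hS
      rw [show ∑ T : SymM F n, wt ψ T.1 (-S) = 0 from ?_, zero_smul]
      let χ : AddChar (SymM F n) L :=
        { toFun := fun T => wt ψ T.1 (-S)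
          map_zero_eq_one' := by
            show ψ (Matrix.trace ((0 : Matrix (Fin n) (Fin n) F) * (-S : SymM F n).1)) = 1
            rw [Matrix.zero_mul, Matrix.trace_zero, AddChar.map_zero_eq_one]
          map_add_eq_mul' := fun T T' => by
            show ψ (Matrix.trace ((T.1 + T'.1) * (-S : SymM F n).1)) = _
            rw [Matrix.add_mul, Matrix.trace_add, AddChar.map_add_eq_mul]
            rfl }
      have hχ : χ ≠ 0 := fun h => by
        refine hS (neg_eq_zero.1 (wt_injective hψ h2 (DFunLike.ext _ _ fun T => ?_)))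
        show ψ (Matrix.trace ((-S : SymM F n).1 * T.1)) =
          ψ (Matrix.trace (((0 : SymM F n) : Matrix (Fin n) (Fin n) F) * T.1))
        rw [Matrix.trace_mul_comm, ZeroMemClass.coe_zero, Matrix.zero_mul, Matrix.trace_zero,
          AddChar.map_zero_eq_one]
        exact DFunLike.congr_fun h T
      exact (AddChar.sum_eq_ite χ).trans (if_neg hχ)
    · simp
  obtain ⟨T, hT0, hT⟩ : ∃ T : SymM F n, T ≠ 0 ∧ e T ≠ 0 := by
    by_contra! h
    have h1 : e 0 = 1 := by
      rw [← hsum, Finset.sum_eq_single (0 : SymM F n) (fun b _ hb => h b hb) (by simp)]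
    let i₀ : Fin n := ⟨0, by omega⟩
    let S : SymM F n := ⟨Matrix.single i₀ i₀ 1, transpose_single ..⟩
    have h3 : ρ (unip S) = 1 := by
      have := heig 0 S
      rw [h1, mul_one] at this
      rw [show ρ (unip S) = R S from rfl, this]
      show ψ (Matrix.trace ((0 : Matrix (Fin n) (Fin n) F) * S.1)) • (1 : Matrix (Fin d) (Fin d) L) = 1
      rw [Matrix.zero_mul, Matrix.trace_zero, AddChar.map_zero_eq_one, one_smul]
    have := congrFun (congrFun (congrArg Subtype.val (hρ S h3)) i₀) i₀
    simp [S] at this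
  -- the orbit
  have hTs : (T.1).IsSymm := T.2
  let O := Finset.univ.image (congr' T.1)
  have hmem : ∀ X : O, ∃ A : GL (Fin n) F, congr' T.1 A = X.1 := fun X => by
    obtain ⟨A, -, hA⟩ := Finset.mem_image.1 X.2
    exact ⟨A, hA⟩
  choose A hA using hmem
  have hconj : ∀ (B : GL (Fin n) F), ρ (leviS B)⁻¹ * e T * ρ (leviS B) =
      e ⟨congr' T.1 B, isSymm_congr' hTs B⟩ := by
    intro B
    simp only [e, Matrix.mul_smul, Matrix.smul_mul, Finset.mul_sum, Finset.sum_mul]
    congr 1
    refine (Fintype.sum_equiv (symCongr B) _ _ fun S => ?_).symm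
    rw [show R (symCongr B S) = ρ (leviS B) * R S * ρ (leviS B)⁻¹ by
      simp only [R, ← leviS_conj, map_mul]]
    rw [← mul_assoc, ← mul_assoc, ← map_mul, inv_mul_cancel, map_one, one_mul, mul_assoc, ← map_mul,
      inv_mul_cancel, map_one, mul_one]
    congr 1
    show ψ (Matrix.trace (_ * T.1 * _ * (-S : SymM F n).1)) = ψ (Matrix.trace (T.1 * (-(symCongr B S)).1))
    congr 1
    show Matrix.trace (_ * T.1 * _ * (-(S.1))) = Matrix.trace (T.1 * (-(_ * S.1 * _)))
    rw [Matrix.mul_neg, Matrix.mul_neg, Matrix.trace_neg, Matrix.trace_neg, neg_inj, Matrix.mul_assoc,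
      Matrix.mul_assoc, Matrix.trace_mul_comm, Matrix.mul_assoc]
  let T' : O → SymM F n := fun X => ⟨X.1, hA X ▸ isSymm_congr' hTs (A X)⟩
  have hne : ∀ X : O, ∃ v, e (T' X) *ᵥ v ≠ 0 := by
    intro X
    by_contra! h
    have h0 : e (T' X) = 0 := Matrix.ext_of_mulVec_single fun i => by rw [h, Matrix.zero_mulVec]
    have h1 := hconj (A X)
    rw [show (⟨congr' T.1 (A X), isSymm_congr' hTs (A X)⟩ : SymM F n) = T' X from Subtype.ext (hA X),
      h0] at h1
    refine hT ?_
    calc e T = (ρ (leviS (A X)) * ρ (leviS (A X))⁻¹) * e T * (ρ (leviS (A X)) * ρ (leviS (A X))⁻¹) := by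
          rw [← map_mul, mul_inv_cancel, map_one, one_mul, mul_one]
      _ = ρ (leviS (A X)) * (ρ (leviS (A X))⁻¹ * e T * ρ (leviS (A X))) * ρ (leviS (A X))⁻¹ := by
          simp only [mul_assoc]
      _ = 0 := by rw [h1, mul_zero, zero_mul]
  choose v hv using hne
  let enum := (Fintype.equivFin (SymM F n)).symm
  have hli : LinearIndependent L fun X : O => e (T' X) *ᵥ v X :=
    Classical.SympMinDegree.linearIndependent_weights (fun i => Matrix.toLin' (R (enum i)))
      (fun X i => wt ψ (T' X).1 (enum i)) (fun X Y h => by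
        have := wt_injective hψ h2 (DFunLike.ext (wt ψ (T' X).1) (wt ψ (T' Y).1) fun S => by
          have := congrFun h (enum.symm S)
          simpa using this)
        exact Subtype.ext (congrArg (Subtype.val : SymM F n → Matrix (Fin n) (Fin n) F) this))
      _ hv fun X i => by
        rw [Matrix.toLin'_apply, Matrix.mulVec_mulVec, heig, Matrix.smul_mulVec]
  have h1 := hli.fintype_card_le_finrank
  rw [Module.finrank_fin_fun, Fintype.card_coe] at h1
  have h3 := orbit_bound h2 hTs (fun h => hT0 (Subtype.ext h))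
  have : O.card = (Finset.univ.image (congr' T.1)).card := rfl
  omega

/-- The lower bound for the degree. -/
theorem degree_ge (hodd : Odd (Fintype.card F)) (hn : 1 ≤ n) {K : Type*} [Field K]
    (hK : ringChar K ≠ ringChar F) {d : ℕ} (ρ : Matrix.symplecticGroup (Fin n) F →* GL (Fin d) K)
    (hker : ρ.ker ≤ Subgroup.center (Matrix.symplecticGroup (Fin n) F)) :
    (Fintype.card F ^ n - 1) / 2 ≤ d := by
  have h2 : (2 : F) ≠ 0 := fun h => by
    have hc : ringChar F = 2 := by
      have hd : ringChar F ∣ 2 := (ringChar.spec F 2).1 (by simpa using h)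
      have := Fact.mk (CharP.char_is_prime F (ringChar F))
      exact (Nat.prime_dvd_prime_iff_eq Fact.out Nat.prime_two).1 hd
    exact (Nat.not_even_iff_odd.mpr hodd) (Nat.even_iff.mpr (FiniteField.even_card_of_char_two hc))
  set p := ringChar F
  have := Fact.mk (CharP.char_is_prime F p)
  have hpK : (p : AlgebraicClosure K) ≠ 0 := by
    rw [← map_natCast (algebraMap K (AlgebraicClosure K)), map_ne_zero]
    intro h
    have hd := (ringChar.spec K p).1 h
    rcases (Nat.dvd_prime (Fact.out : p.Prime)).1 hd with h1 | h1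
    · exact CharP.ringChar_ne_one h1
    · exact hK h1
  refine degree_ge_field p hpK h2
    (((algebraMap K (AlgebraicClosure K)).mapMatrix.toMonoidHom).comp ((Units.coeHom _).comp ρ))
    (fun S hS => ?_) hn
  have h1 : ρ (unip S) = 1 := Units.ext (Matrix.map_injective (algebraMap K (AlgebraicClosure K)).injective
    (by simpa using hS))
  obtain ⟨c, hc⟩ := (FormRep.Symplectic.center_iff _).1 (hker h1)
  refine Subtype.ext (Matrix.ext fun i j => ?_)
  have h3 := congrFun (congrFun hc (Sum.inl i)) (Sum.inr j)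
  change (Matrix.fromBlocks 1 S.1 0 1) (Sum.inl i) (Sum.inr j) = _ at h3
  simpa using h3

end CfsgLib.SpCrossDegree
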